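import Groth.Agent.Lib.CurveOpen32.Struct
import Mathlib.GroupTheory.SpecificGroups.Cyclic

/-!
# Extensions of free `ℤ/n`-modules
-/

set_option autoImplicit false
set_option linter.style.haveILetI false

namespace Groth.Agent.PunctC32

open Groth.Agent CurveOpen32

variable {n : ℕ}

/-- In `(ℤ/n)^a` the `d`-torsion has `d^a` elements. -/
theorem card_nTor_fun (hn : 0 < n) {a d : ℕ} (hd : d ∣ n) :
    Nat.card (nTor d (Fin a → ZMod n)) = d ^ a := by
  haveI : NeZero n := ⟨hn.ne'⟩
  have h1 : Nat.card (nTor d (ZMod n)) = d := by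
    refine (IsAddCyclic.card_nsmulAddMonoidHom_ker (G := ZMod n) d).trans ?_
    rw [Nat.card_zmod, Nat.gcd_eq_right hd]
  have e : nTor d (Fin a → ZMod n) ≃ (Fin a → nTor d (ZMod n)) :=
    { toFun := fun x i => ⟨x.1 i, congrFun (x.2 : d • x.1 = 0) i⟩
      invFun := fun y => ⟨fun i => (y i).1, funext fun i => (y i).2⟩
      left_inv := fun x => rfl
      right_inv := fun y => rfl }
  rw [Nat.card_congr e, Nat.card_fun, h1, Nat.card_fin]

/-- In `(ℤ/n)^a`, the `m`-torsion is divisible by `d` when `n = d m`. -/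
theorem exists_nsmul_of_torsion {a d m : ℕ} (hn : 0 < n) (hdm : n = d * m) (x : Fin a → ZMod n)
    (hx : m • x = 0) : ∃ y, d • y = x := by
  haveI : NeZero n := ⟨hn.ne'⟩
  have hm : 0 < m := Nat.pos_of_mul_pos_left (hdm ▸ hn)
  refine ⟨fun i => (((x i).val / d : ℕ) : ZMod n), funext fun i => ?_⟩
  have h0 : ((m * (x i).val : ℕ) : ZMod n) = 0 := by
    rw [Nat.cast_mul, ZMod.natCast_zmod_val, ← nsmul_eq_mul]
    exact congrFun hx i
  rw [ZMod.natCast_eq_zero_iff] at h0
  have h2 : d * m ∣ (x i).val * m := by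
    rw [← hdm, mul_comm]
    exact h0
  rw [Pi.smul_apply, nsmul_eq_mul, ← Nat.cast_mul, Nat.mul_div_cancel' (Nat.dvd_of_mul_dvd_mul_right hm h2),
    ZMod.natCast_zmod_val]

variable {A B C : Type*} [AddCommGroup A] [AddCommGroup B] [AddCommGroup C] {f : A →+ B} {g : B →+ C}

/-- Torsion in an extension by a free `ℤ/n`-module. -/
theorem card_nTor_ext (hn : 0 < n) (hf : Function.Injective f) (hg : Function.Surjective g) (he : g.ker = f.range)
    (hB : ∀ x : B, n • x = 0) {a : ℕ} (eA : A ≃+ (Fin a → ZMod n)) {d : ℕ} (hd : d ∣ n) :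
    Nat.card (nTor d B) = d ^ a * Nat.card (nTor d C) := by
  obtain ⟨m, hdm⟩ := hd
  let g' : nTor d B →+ nTor d C := (g.comp (nTor d B).subtype).codRestrict _ fun x => by
    show d • g x.1 = 0
    rw [← map_nsmul, show d • x.1 = 0 from x.2, map_zero]
  let f' : nTor d A →+ nTor d B := (f.comp (nTor d A).subtype).codRestrict _ fun x => by
    show d • f x.1 = 0
    rw [← map_nsmul, show d • x.1 = 0 from x.2, map_zero]
  have hf' : f'.ker = ⊥ := (AddMonoidHom.ker_eq_bot_iff f').2 fun x y h =>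
    Subtype.ext (hf (congrArg Subtype.val h))
  have hgf : ∀ x, g (f x) = 0 := fun x => by
    have h : f x ∈ g.ker := by rw [he]; exact ⟨x, rfl⟩
    exact h
  have hg' : Function.Surjective g' := by
    rintro ⟨y, hy⟩
    obtain ⟨b, rfl⟩ := hg y
    have h1 : d • b ∈ g.ker := AddMonoidHom.mem_ker.2 (by rw [map_nsmul]; exact hy)
    rw [he] at h1
    obtain ⟨x, hx⟩ := h1
    have h2 : m • eA x = 0 := by
      rw [← map_nsmul, show m • x = 0 from hf (by rw [map_nsmul, hx, map_zero, ← mul_nsmul', mul_comm, ← hdm, hB]), map_zero]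
    obtain ⟨z, hz⟩ := exists_nsmul_of_torsion hn hdm (eA x) h2
    have hdz : d • eA.symm z = x := by rw [← map_nsmul, hz, AddEquiv.symm_apply_apply]
    refine ⟨⟨b - f (eA.symm z), ?_⟩, Subtype.ext ?_⟩
    · show d • (b - f (eA.symm z)) = 0
      rw [nsmul_sub, ← map_nsmul, hdz, hx, sub_self]
    · show g (b - f (eA.symm z)) = g b
      rw [map_sub, hgf, sub_zero]
  have he' : g'.ker = f'.range := by
    ext x
    constructor
    · intro hx
      have h1 : x.1 ∈ g.ker := congrArg Subtype.val (AddMonoidHom.mem_ker.1 hx)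
      rw [he] at h1
      obtain ⟨y, hy⟩ := h1
      refine ⟨⟨y, hf ?_⟩, Subtype.ext hy⟩
      show f (d • y) = f 0
      rw [map_nsmul, hy, map_zero, show d • x.1 = 0 from x.2]
    · rintro ⟨y, rfl⟩
      exact AddMonoidHom.mem_ker.2 (Subtype.ext (hgf y.1))
  have hA : Nat.card (nTor d A) = d ^ a := by
    rw [show Nat.card (nTor d A) = Nat.card (nTor d (Fin a → ZMod n)) from
      Nat.card_congr (eA.toEquiv.subtypeEquiv fun x => by
        show d • x = 0 ↔ d • eA x = 0
        rw [← map_nsmul, map_eq_zero_iff eA eA.injective]), card_nTor_fun hn ⟨m, hdm⟩]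
  rw [card_of_exact f' g' hg' he', hf', Nat.card_congr QuotientAddGroup.quotientBot.toEquiv, hA]

/-- The middle of an extension of free `ℤ/n`-modules is free. -/
theorem nonempty_middle (hn : 0 < n) (hf : Function.Injective f) (hg : Function.Surjective g) (he : g.ker = f.range)
    (hB : ∀ x : B, n • x = 0) {a c : ℕ} (eA : A ≃+ (Fin a → ZMod n)) (eC : C ≃+ (Fin c → ZMod n)) :
    Nonempty (B ≃+ (Fin (a + c) → ZMod n)) := by
  haveI : NeZero n := ⟨hn.ne'⟩
  haveI : Finite A := Finite.of_equiv _ eA.symm.toEquiv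
  haveI : Finite C := Finite.of_equiv _ eC.symm.toEquiv
  have h : ∀ d, d ∣ n → Nat.card (nTor d B) = d ^ (a + c) := fun d hd => by
    rw [card_nTor_ext hn hf hg he hB eA hd, pow_add,
      show Nat.card (nTor d C) = Nat.card (nTor d (Fin c → ZMod n)) from
        Nat.card_congr (eC.toEquiv.subtypeEquiv fun x => by
          show d • x = 0 ↔ d • eC x = 0
          rw [← map_nsmul, map_eq_zero_iff eC eC.injective]), card_nTor_fun hn hd]
  haveI : Finite B := Nat.finite_of_card_ne_zero (by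
    rw [← Nat.card_congr (AddSubgroup.topEquiv : (⊤ : AddSubgroup B) ≃+ B).toEquiv,
      show (⊤ : AddSubgroup B) = nTor n B from (eq_top_iff.2 fun x _ => hB x).symm, h n dvd_rfl]
    exact pow_ne_zero _ hn.ne')
  exact nonempty_addEquiv_zmod hn hB h

/-- The quotient of two free `ℤ/n`-modules is free. -/
theorem nonempty_quot (hn : 0 < n) (hf : Function.Injective f) (hg : Function.Surjective g) (he : g.ker = f.range)
    {a b : ℕ} (eA : A ≃+ (Fin a → ZMod n)) (eB : B ≃+ (Fin b → ZMod n)) (hab : a ≤ b) :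
    Nonempty (C ≃+ (Fin (b - a) → ZMod n)) := by
  haveI : NeZero n := ⟨hn.ne'⟩
  haveI : Finite B := Finite.of_equiv _ eB.symm.toEquiv
  haveI : Finite C := Finite.of_surjective g hg
  have hB : ∀ x : B, n • x = 0 := fun x => eB.injective (by
    rw [map_nsmul, map_zero]; funext i; rw [Pi.smul_apply, nsmul_eq_mul, ZMod.natCast_self, zero_mul, Pi.zero_apply])
  refine nonempty_addEquiv_zmod hn (fun y => by obtain ⟨x, rfl⟩ := hg y; rw [← map_nsmul, hB, map_zero]) fun d hd => ?_
  have h := card_nTor_ext hn hf hg he hB eA hd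
  rw [show Nat.card (nTor d B) = Nat.card (nTor d (Fin b → ZMod n)) from
    Nat.card_congr (eB.toEquiv.subtypeEquiv fun x => by
      show d • x = 0 ↔ d • eB x = 0
      rw [← map_nsmul, map_eq_zero_iff eB eB.injective]), card_nTor_fun hn hd] at h
  have hd0 : 0 < d := Nat.pos_of_dvd_of_pos hd hn
  refine Nat.eq_of_mul_eq_mul_left (pow_pos hd0 a) (h.symm.trans ?_)
  rw [← pow_add, Nat.add_sub_cancel' hab]

end Groth.Agent.PunctC32
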