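import Groth.Agent.Lib.PunctC32.Main
import Groth.Agent.Lib.CurvePair32.Iso
import Groth.Agent.S0233
import Groth.Agent.S0204
import Mathlib.RingTheory.Polynomial.Basic

/-!
# The affine line minus finitely many points
-/

set_option autoImplicit false
set_option linter.style.haveILetI false
set_option linter.unusedSectionVars false
set_option backward.isDefEq.respectTransparency.types false
set_option maxHeartbeats 1000000

universe u

open CategoryTheory CategoryTheory.Limits AlgebraicGeometry Opposite CategoryTheory.Abelian Polynomial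

noncomputable section

namespace Groth.Agent.PunctC32

open Groth.Agent

noncomputable local instance instLawLine32 (Y : Scheme.{u}) : PicGrp.Law Y := M2.law Y

variable {k : Type u} [Field k] [IsAlgClosed k]

/-- The structure map of the affine line. -/
abbrev lineTo (k : Type u) [Field k] : Spec (CommRingCat.of k[X]) ⟶ Spec (CommRingCat.of k) :=
  Spec.map (CommRingCat.ofHom C)

theorem nonempty_H1_line {n : ℕ} (hn : 1 ≤ n) (hnk : (n : k) ≠ 0) :
    Nonempty (EtCoh.H (Spec (CommRingCat.of k[X])) (EtCoh.const _ (ZMod n)) 1 ≃+ (Fin 0 → ZMod n)) := by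
  classical
  let A1 : Scheme.{u} := Spec (CommRingCat.of k[X])
  let Y : Scheme.{u} := ((⊤ : A1.Opens) : Scheme.{u})
  let i : Y ⟶ A1 := A1.topIso.hom
  haveI : IsIso i := inferInstanceAs (IsIso A1.topIso.hom)
  haveI : PreservesFiniteLimits (EtCoh.pull i) := EtStalk.preservesFiniteLimits_pull i
  haveI : IsAffine Y := .of_isIso i
  haveI : Nonempty Y := ⟨⟨genericPoint A1, trivial⟩⟩
  haveI : IsIntegral Y := isIntegral_of_isOpenImmersion i
  obtain ⟨μ⟩ := CurvePair32.exists_mu_iso (i ≫ lineTo k) hn hnk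
  have hu : IsUnit (n : Γ(Y, ⊤)) := CurveOpen32.isUnit_natCast (i ≫ lineTo k) hnk
  have h1 : Nat.card (Additive Γ(Y, ⊤)ˣ ⧸ CurveOpen32.nMul n (Additive Γ(Y, ⊤)ˣ)) = 1 := by
    have htop : CurveOpen32.nMul n (Additive Γ(Y, ⊤)ˣ) = ⊤ := eq_top_iff.2 fun u _ => by
      haveI : IsIso i.appTop := inferInstanceAs (IsIso (i.app ⊤))
      let e : k[X] ≃+* Γ(Y, ⊤) :=
        ((Scheme.ΓSpecIso (CommRingCat.of k[X])).symm ≪≫ asIso i.appTop).commRingCatIsoToRingEquiv
      obtain ⟨a, ha0, ha⟩ := Polynomial.isUnit_iff.1 ((u.toMul.isUnit).map e.symm)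
      obtain ⟨b, hb⟩ := IsAlgClosed.exists_pow_nat_eq a (show 0 < n by omega)
      have hb0 : b ≠ 0 := fun h => ha0.ne_zero (by rw [← hb, h, zero_pow (by omega)])
      refine ⟨Additive.ofMul (Units.map (e.toMonoidHom.comp (C : k →+* k[X]).toMonoidHom) (Units.mk0 b hb0)),
        (ofMul_pow n _).symm.trans (congrArg Additive.ofMul (Units.ext ?_))⟩
      show e (C b) ^ n = u.toMul.1
      rw [← map_pow, ← map_pow, hb, ha, RingEquiv.apply_symm_apply]
    rw [htop]
    exact AddSubgroup.index_top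
  haveI : Subsingleton (PicLoc.PicSet Y) := by
    refine subsingleton_of_forall_eq 1 fun c => ?_
    obtain ⟨L, hL, rfl⟩ := PicGrp.exists_eq_cls c
    exact (PicGrp.cls_eq_one_iff hL).2 (Groth.Agent.S0233.result k[X] (⊤ : A1.Opens) L hL)
  haveI : Subsingleton (CurveOpen32.nTor n (Additive (PicLoc.PicSet Y))) := inferInstance
  have hcard : Nat.card (EtCoh.H A1 (EtCoh.const A1 (ZMod n)) 1) = 1 := by
    rw [Nat.card_eq_of_bijective _ (LocAcyc24.bijective_Hpull_of_isIso i (EtCoh.const A1 (ZMod n)) 1),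
      CurvePair32.card_H_congr (EtCore.pullConst i (ZMod n)) 1, ← CurvePair32.card_H_congr μ 1,
      CurveOpen32.card_H1_mu hu, h1, one_mul, Nat.card_eq_one_iff_unique]
    exact ⟨inferInstance, inferInstance⟩
  obtain ⟨hs, -⟩ := Nat.card_eq_one_iff_unique.1 hcard
  exact ⟨{ toFun := fun _ => 0, invFun := fun _ => 0, left_inv := fun x => hs.elim _ _,
           right_inv := fun x => funext fun i => i.elim0, map_add' := fun _ _ => (add_zero _).symm }⟩

/-- The rational point `a` of the affine line. -/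
abbrev linePt (a : k) : Spec (CommRingCat.of k) ⟶ Spec (CommRingCat.of k[X]) :=
  Spec.map (CommRingCat.ofHom (evalRingHom a))

instance (a : k) : IsClosedImmersion (linePt a) :=
  IsClosedImmersion.spec_of_surjective _ fun b => ⟨C b, eval_C⟩

theorem mem_range_linePt (a : k) (x : Spec (CommRingCat.of k[X])) :
    x ∈ Set.range (linePt a) ↔ X - C a ∈ (x : PrimeSpectrum k[X]).asIdeal := by
  constructor
  · rintro ⟨z, rfl⟩
    show evalRingHom a (X - C a) ∈ (z : PrimeSpectrum k).asIdeal
    simp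
  · intro h
    refine ⟨IsLocalRing.closedPoint k, PrimeSpectrum.ext ?_⟩
    have hmax : (Ideal.span {X - C a} : Ideal k[X]).IsMaximal :=
      PrincipalIdealRing.isMaximal_of_irreducible (irreducible_X_sub_C a)
    show (IsLocalRing.maximalIdeal k).comap (evalRingHom a) = (x : PrimeSpectrum k[X]).asIdeal
    rw [← hmax.eq_of_le (x : PrimeSpectrum k[X]).isPrime.ne_top ((Ideal.span_singleton_le_iff_mem _).2 h)]
    refine (hmax.eq_of_le (Ideal.IsPrime.ne_top inferInstance) ((Ideal.span_singleton_le_iff_mem _).2 ?_)).symm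
    rw [Ideal.mem_comap]
    simp

theorem line_main {n : ℕ} (hnk : (n : k) ≠ 0) {r : ℕ} (hr : 0 < r) (a : Fin r → k) (ha : Function.Injective a)
    {U : Scheme.{u}} (j : U ⟶ Spec (CommRingCat.of k[X])) [IsOpenImmersion j] [EtShriek.JCont j]
    (hj : j.opensRange = (Spec (CommRingCat.of k[X])).basicOpen ((Scheme.ΓSpecIso (CommRingCat.of k[X])).inv
      (Finset.univ.prod fun i => (X - C (a i))))) :
    (∀ s : ℕ, s ≠ 1 → Subsingleton (EtCoh.H (Spec (CommRingCat.of k[X])) ((EtShriek.extZero j).obj (EtCoh.mu U n)) s)) ∧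
      Nonempty (EtCoh.H (Spec (CommRingCat.of k[X])) ((EtShriek.extZero j).obj (EtCoh.mu U n)) 1 ≃+
        (Fin (r - 1) → Additive (rootsOfUnity n k))) := by
  classical
  have hn : 1 ≤ n := Nat.one_le_iff_ne_zero.2 fun h => hnk (by rw [h, Nat.cast_zero])
  haveI : NeZero n := ⟨by omega⟩
  haveI : NeZero (n : k) := ⟨hnk⟩
  have hrange : ∀ x, x ∈ Set.range j ↔ ∀ b, X - C (a b) ∉ (x : PrimeSpectrum k[X]).asIdeal := fun x => by
    have hx : x ∈ Set.range j ↔ (Finset.univ.prod fun i => (X - C (a i))) ∉ (x : PrimeSpectrum k[X]).asIdeal := by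
      rw [show Set.range j = ((j.opensRange : (Spec (CommRingCat.of k[X])).Opens) : Set _) from rfl, hj]
      rw [basicOpen_eq_of_affine]
      exact Iff.rfl
    rw [hx, (x : PrimeSpectrum k[X]).isPrime.prod_mem_iff]
    simp
  have hcov : ∀ x, x ∈ Set.range j ∨ ∃ b, x ∈ Set.range (linePt (a b)) := fun x => by
    by_cases h : x ∈ Set.range j
    · exact Or.inl h
    · rw [hrange] at h
      push Not at h
      obtain ⟨b, hb⟩ := h
      exact Or.inr ⟨b, (mem_range_linePt _ x).2 hb⟩
  have hdisj : ∀ b, ∀ x ∈ Set.range (linePt (a b)),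
      x ∉ Set.range j ∧ ∀ b', x ∈ Set.range (linePt (a b')) → b' = b := fun b x hx => by
    rw [mem_range_linePt] at hx
    refine ⟨fun h => (hrange x).1 h b hx, fun b' hb' => ha ?_⟩
    rw [mem_range_linePt] at hb'
    by_contra hne
    have h1 : C (a b - a b') ∈ (x : PrimeSpectrum k[X]).asIdeal := by
      rw [map_sub, show (C (a b) - C (a b') : k[X]) = (X - C (a b')) - (X - C (a b)) by ring]
      exact Ideal.sub_mem _ hb' hx
    exact (x : PrimeSpectrum k[X]).isPrime.ne_top (Ideal.eq_top_of_isUnit_mem _ h1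
      (isUnit_C.2 (isUnit_iff_ne_zero.2 (sub_ne_zero.2 (fun h => hne h.symm)))))
  haveI : IsIntegral U := by
    haveI : Nonempty U := by
      obtain ⟨y, hy⟩ : genericPoint (Spec (CommRingCat.of k[X])) ∈ Set.range j := (hrange _).2 fun b hb => by
        rw [genericPoint_eq_bot_of_affine] at hb
        exact X_sub_C_ne_zero (a b) (Ideal.mem_bot.1 hb)
      exact ⟨y⟩
    exact isIntegral_of_isOpenImmersion j
  obtain ⟨μ⟩ := CurvePair32.exists_mu_iso (j ≫ lineTo k) hn hnk
  obtain ⟨h0, ⟨e⟩, hq⟩ := cohomology j (fun b => linePt (a b)) hcov hdisj hr hn μ (nonempty_H1_line hn hnk)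
  refine ⟨fun s hs => ?_, ⟨e.trans ?_⟩⟩
  · rcases s with _ | _ | s
    · exact h0
    · exact absurd rfl hs
    · refine hq (s + 2) (by omega) ?_
      have hdim : topologicalKrullDim (Spec (CommRingCat.of k[X])) ≤ 1 :=
        (PrimeSpectrum.topologicalKrullDim_eq_ringKrullDim k[X]).le.trans
          (by rw [Polynomial.ringKrullDim_of_isNoetherianRing, ringKrullDim_eq_zero_of_field]; rfl)
      haveI : LocallyOfFiniteType (lineTo k) := by
        rw [HasRingHomProperty.Spec_iff (P := @LocallyOfFiniteType)]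
        exact RingHom.finiteType_algebraMap.2 (inferInstance : Algebra.FiniteType k k[X])
      exact Groth.Agent.S0204.result k _ (lineTo k) hdim _
        (FieldH25.isTorsion_of_nsmul_id_eq_zero _ hn (EtAcyc24.nsmul_id_const _ n)) (s + 2) (by omega)
  · have hc : Nat.card (Additive (rootsOfUnity n k)) = n :=
      (Nat.card_congr Additive.toMul).trans (HasEnoughRootsOfUnity.natCard_rootsOfUnity k n)
    haveI : IsAddCyclic (Additive (rootsOfUnity n k)) := inferInstance
    let z : ZMod n ≃+ Additive (rootsOfUnity n k) := (ZMod.ringEquivCongr hc).toAddEquiv.symm.trans (zmodAddCyclicAddEquiv (inferInstance : IsAddCyclic (Additive (rootsOfUnity n k))))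
    exact (AddEquiv.arrowCongr (finCongr (by omega)) z)

end Groth.Agent.PunctC32
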