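import Groth.Agent.Lib.PunctC32.Seq
import Groth.Agent.Lib.PunctC32.Count
import Groth.Agent.Lib.CurveOpen32.Kummer

/-!
# Cohomology of `j_! μ_n` for the complement of finitely many points
-/

set_option autoImplicit false
set_option linter.style.haveILetI false
set_option linter.unusedSectionVars false
set_option backward.isDefEq.respectTransparency.types false
set_option maxHeartbeats 1000000

universe u

open CategoryTheory CategoryTheory.Limits AlgebraicGeometry Opposite CategoryTheory.Abelian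

noncomputable section

namespace Groth.Agent.PunctC32

open Groth.Agent

theorem nonempty_addEquiv_H {Y : Scheme.{u}} {F G : EtCoh.Ab Y} (e : F ≅ G) (q : ℕ) :
    Nonempty (EtCoh.H Y F q ≃+ EtCoh.H Y G q) :=
  ⟨{ toFun := fun x => x.comp (Ext.mk₀ e.hom) (add_zero q)
     invFun := fun x => x.comp (Ext.mk₀ e.inv) (add_zero q)
     left_inv := fun x => by simp
     right_inv := fun x => by simp
     map_add' := fun x y => Ext.add_comp _ _ _ _ }⟩

variable {k : Type u} [Field k] [IsAlgClosed k] {X U : Scheme.{u}} (j : U ⟶ X) [IsOpenImmersion j]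
  [EtShriek.JCont j] {r : ℕ} (p : Fin r → (Spec (CommRingCat.of k) ⟶ X)) [∀ b, IsClosedImmersion (p b)]
  (hcov : ∀ x : X, x ∈ Set.range j ∨ ∃ b, x ∈ Set.range (p b))
  (hdisj : ∀ b, ∀ x ∈ Set.range (p b), x ∉ Set.range j ∧ ∀ b', x ∈ Set.range (p b') → b' = b)

include hcov hdisj in
/-- The cohomology of `j_! μ_n`. -/
theorem cohomology [ConnectedSpace X] (hr : 0 < r) {n : ℕ} (hn : 0 < n)
    (μ : EtCoh.mu U n ≅ EtCoh.const U (ZMod n)) {a : ℕ}
    (hX : Nonempty (EtCoh.H X (EtCoh.const X (ZMod n)) 1 ≃+ (Fin a → ZMod n))) :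
    Subsingleton (EtCoh.H X ((EtShriek.extZero j).obj (EtCoh.mu U n)) 0) ∧
      Nonempty (EtCoh.H X ((EtShriek.extZero j).obj (EtCoh.mu U n)) 1 ≃+ (Fin (r - 1 + a) → ZMod n)) ∧
      ∀ q, 2 ≤ q → Subsingleton (EtCoh.H X (EtCoh.const X (ZMod n)) q) →
        Subsingleton (EtCoh.H X ((EtShriek.extZero j).obj (EtCoh.mu U n)) q) := by
  let M := ZMod n
  let F := EtCoh.const X M
  let K := (EtShriek.extZero j).obj ((EtShriek.restrAlong j).obj F)
  have e : (EtShriek.extZero j).obj (EtCoh.mu U n) ≅ K :=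
    (EtShriek.extZero j).mapIso (μ ≪≫ (EtLocCoh19.restrConst j M).symm)
  obtain ⟨w, hS⟩ := shortExact_seq j p hcov hdisj F
  let S : ShortComplex (EtCoh.Ab X) := ShortComplex.mk _ _ w
  haveI hK0 : Subsingleton (EtCoh.H X K 0) := subsingleton_H0 j p hdisj hcov M ⟨0, hr⟩
  have hsub : ∀ q, Subsingleton (EtCoh.H X K q) → Subsingleton (EtCoh.H X ((EtShriek.extZero j).obj (EtCoh.mu U n)) q) :=
    fun q h => by
      obtain ⟨E⟩ := nonempty_addEquiv_H e q
      exact E.toEquiv.subsingleton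
  refine ⟨hsub 0 hK0, ?_, fun q hq hXq => hsub q ?_⟩
  · let f₀ : EtCoh.H X F 0 →+ EtCoh.H X (sky p F) 0 := Sheaf.H.map S.g 0
    let δ : EtCoh.H X (sky p F) 0 →+ EtCoh.H X K 1 := hS.extClass.postcomp _ rfl
    let g₁ : EtCoh.H X K 1 →+ EtCoh.H X F 1 := Sheaf.H.map S.f 1
    let A : AddSubgroup (EtCoh.H X K 1) := g₁.ker
    have hf₀ : Function.Injective f₀ := (injective_iff_map_eq_zero _).2 fun x hx => by
      obtain ⟨y, rfl⟩ := Ext.covariant_sequence_exact₂ _ hS x hx
      have h0 : y = 0 := hK0.elim y 0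
      rw [h0, Ext.zero_comp]
    have hg₁ : Function.Surjective g₁ := fun y => by
      haveI := subsingleton_H_sky p M (q := 1) (by omega) (X := X)
      exact Ext.covariant_sequence_exact₂ _ hS y (Subsingleton.elim _ _)
    have hA : δ.range = A := by
      ext x
      constructor
      · rintro ⟨y, rfl⟩
        refine AddMonoidHom.mem_ker.2 ?_
        show (y.comp hS.extClass (rfl : 0 + 1 = 1)).comp (Ext.mk₀ S.f) (add_zero 1) = 0
        rw [Ext.comp_assoc_of_third_deg_zero]
        erw [hS.extClass_comp]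
        exact Ext.comp_zero _ _ _ _ _
      · intro hx
        obtain ⟨y, hy⟩ := Ext.covariant_sequence_exact₁ _ hS x hx (n₀ := 0) rfl
        exact ⟨y, hy⟩
    have hδ : δ.ker = f₀.range := by
      ext x
      constructor
      · intro hx
        obtain ⟨y, hy⟩ := Ext.covariant_sequence_exact₃ _ hS x (n₁ := 1) rfl hx
        exact ⟨y, hy⟩
      · rintro ⟨y, rfl⟩
        exact CurveFin32.comp_mk₀_extClass hS rfl y
    obtain ⟨e₀⟩ := LocAcycBC6.nonempty_H0_const_addEquiv X M
    obtain ⟨eS⟩ := nonempty_H0_sky p M (X := X)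
    obtain ⟨eX⟩ := hX
    obtain ⟨eA⟩ := nonempty_quot (f := f₀) (g := δ.rangeRestrict) hn hf₀ δ.rangeRestrict_surjective
      (by rw [AddMonoidHom.ker_rangeRestrict, hδ])
      (e₀.trans (AddEquiv.funUnique (Fin 1) M).symm) eS hr
    have hK : ∀ x : EtCoh.H X K 1, n • x = 0 := fun x => by
      refine (Dix24.comp_mk₀_nsmul_id n x).symm.trans ?_
      have h1 : n • 𝟙 K = 0 := by
        haveI := hS.mono_f
        rw [← cancel_mono ((EtShriek.extZeroAdj j).counit.app F), Preadditive.nsmul_comp, Category.id_comp, zero_comp]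
        refine (congrArg (fun t => n • t) (Category.comp_id _).symm).trans ?_
        have h2 : n • 𝟙 ((𝟭 (EtCoh.Ab X)).obj F) = 0 := EtAcyc24.nsmul_id_const X n
        rw [← Preadditive.comp_nsmul, h2, comp_zero]
      rw [h1, Ext.mk₀_zero, Ext.comp_zero]
    obtain ⟨eK⟩ := nonempty_middle (f := A.subtype) (g := g₁) hn Subtype.val_injective hg₁
      (by rw [AddSubgroup.range_subtype]) hK ((AddEquiv.addSubgroupCongr hA.symm).trans eA) eX
    obtain ⟨E⟩ := nonempty_addEquiv_H e 1
    exact ⟨E.trans eK⟩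
  · obtain ⟨p', rfl⟩ : ∃ p', q = p' + 1 := ⟨q - 1, by omega⟩
    have hs := subsingleton_H_sky p M (q := p') (by omega) (X := X)
    refine subsingleton_of_forall_eq 0 fun x => ?_
    obtain ⟨y, rfl⟩ := Ext.covariant_sequence_exact₁ _ hS x (hXq.elim _ _) (n₀ := p') rfl
    have h0 : y = 0 := hs.elim y 0
    rw [h0, Ext.zero_comp]

end Groth.Agent.PunctC32
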