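import Groth.Agent.Lib.PunctC32.Main
import Groth.Agent.Lib.CurvePair32.Iso
import Groth.Agent.Lib.LocSymB.PicModExact
import Groth.Agent.Lib.AffMu32.Basic

/-!
# Cohomology with compact supports and the Picard group relative to a modulus
-/

set_option autoImplicit false
set_option linter.style.haveILetI false
set_option linter.unusedSectionVars false
set_option backward.isDefEq.respectTransparency.types false
set_option maxHeartbeats 1000000

universe u

open CategoryTheory CategoryTheory.Limits AlgebraicGeometry Opposite CategoryTheory.Abelian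

noncomputable section

namespace Groth.Agent.PunctC32

open Groth.Agent CurveOpen32 W4c1etcurveeff2

noncomputable local instance instLawModulus32 (Y : Scheme.{u}) : PicGrp.Law Y := M2.law Y

variable {k : Type u} [Field k] [IsAlgClosed k] {X : Scheme.{u}} [IsIntegral X]
  {c : X ⟶ Spec (CommRingCat.of k)} [IsProper c] [Smooth c] (hdim : topologicalKrullDim X = 1)

/-- The Picard group by divisors on rational points. -/
def picEquiv [IsNoetherian X] : W4c1etcurveeff2.Pic c ≃+ Additive (PicLoc.PicSet X) :=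
  (QuotientAddGroup.congr (principal c) (CurveOpen32.divHom (CurvePair32.isNormal (c := c)) hdim).range
    (CurvePair32.divEquiv hdim) (by
      ext D
      constructor
      · rintro ⟨E, hE, rfl⟩
        obtain ⟨g, hg0, hg⟩ := (LocSymB.mem_principal_iff hdim E).1 hE
        have h1 := (CurvePair32.mem_condition hdim 1 (E, Additive.ofMul (Units.mk0 g hg0))).1 fun x => by
          rw [Nat.cast_one, one_mul]; exact hg x
        exact ⟨_, h1.symm.trans (one_nsmul _)⟩
      · rintro ⟨g, rfl⟩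
        refine ⟨(CurvePair32.divEquiv hdim).symm _, (LocSymB.mem_principal_iff hdim _).2
          ⟨g.toMul, g.toMul.ne_zero, fun x => ?_⟩, AddEquiv.apply_symm_apply _ _⟩
        have h1 := (CurvePair32.mem_condition hdim 1 ((CurvePair32.divEquiv hdim).symm
          (CurveOpen32.divHom (CurvePair32.isNormal (c := c)) hdim g), g)).2 (by
            rw [one_nsmul, AddEquiv.apply_symm_apply]) x
        rwa [Nat.cast_one, one_mul] at h1)).trans
    ((QuotientAddGroup.quotientAddEquivOfEq (by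
      ext D; exact (clsHom_eq_zero_iff (CurvePair32.isNormal (c := c)) hdim D).symm)).trans
      (QuotientAddGroup.quotientKerEquivOfSurjective _ (clsHom_surjective (CurvePair32.isNormal (c := c)) hdim)))

include hdim in
theorem card_picMod [IsNoetherian X] {m : LocSym.Pt c →₀ ℕ} (hm : ∀ x : LocSym.Pt c, m x ≤ 1) {d : ℕ} (hd : 1 ≤ d)
    (hdk : (d : k) ≠ 0) :
    Nat.card (nTor d (PicMod c m)) = d ^ (m.support.card - 1) * Nat.card (nTor d (Additive (PicLoc.PicSet X))) := by
  let f : nTor d (PicMod c m) →+ nTor d (W4c1etcurveeff2.Pic c) :=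
    ((picModToPic c m).comp (nTor d (PicMod c m)).subtype).codRestrict _ fun x => by
      show d • picModToPic c m x.1 = 0
      rw [← map_nsmul, show d • x.1 = 0 from x.2, map_zero]
  have hf : Function.Surjective f := fun y => by
    obtain ⟨x, hx, hx'⟩ := LocSymB.exists_torsion_lift hdim (m := m) hm d hd y.1 y.2
    exact ⟨⟨x, hx⟩, Subtype.ext hx'⟩
  rw [AddSubgroup.card_eq_card_quotient_mul_card_addSubgroup f.ker,
    Nat.card_congr (QuotientAddGroup.quotientKerEquivOfSurjective f hf).toEquiv, mul_comm,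
    card_nTor_congr (picEquiv hdim) d, ← LocSymB.card_ker_torsion hdim (m := m) hm d hd hdk]
  congr 1
  exact Nat.card_congr
    { toFun := fun x => ⟨x.1.1, x.1.2, congrArg Subtype.val (AddMonoidHom.mem_ker.1 x.2)⟩
      invFun := fun x => ⟨⟨x.1, x.2.1⟩, AddMonoidHom.mem_ker.2 (Subtype.ext x.2.2)⟩
      left_inv := fun x => rfl
      right_inv := fun x => rfl }

include hdim in
theorem main {m : LocSym.Pt c →₀ ℕ} (hm : ∀ x : LocSym.Pt c, m x ≤ 1)
    {U : Scheme.{u}} (j : U ⟶ X) [IsOpenImmersion j] [EtShriek.JCont j]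
    (hU : ∀ x : LocSym.Pt c, x ∈ m.support ↔ x.pt ∉ Set.range j.base)
    {n : ℕ} (hn : 1 ≤ n) (hnk : (n : k) ≠ 0) :
    Nonempty (EtCoh.H X ((EtShriek.extZero j).obj (EtCoh.mu U n)) 1 ≃+
      (nsmulAddMonoidHom (α := PicMod c m) n).ker) := by
  classical
  haveI : IsLocallyNoetherian X := LocallyOfFiniteType.isLocallyNoetherian c
  haveI : CompactSpace X := QuasiCompact.compactSpace_of_compactSpace c
  haveI : IsNoetherian X := {}
  haveI : NeZero n := ⟨by omega⟩
  let r := m.support.card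
  let pts : Fin r → LocSym.Pt c := fun b => (m.support.equivFin.symm b).1
  let p : Fin r → (Spec (CommRingCat.of k) ⟶ X) := fun b => (pts b).1
  haveI : ∀ b, IsClosedImmersion (p b) := fun b => by
    haveI : IsClosedImmersion (p b ≫ c) := by rw [(pts b).2]; infer_instance
    exact IsClosedImmersion.of_comp (p b) c
  have hmem : ∀ b x, x ∈ Set.range (p b) ↔ x = (pts b).pt := fun b x => by
    refine ⟨?_, fun h => ⟨_, h.symm⟩⟩
    rintro ⟨z, rfl⟩
    rw [Subsingleton.elim z (IsLocalRing.closedPoint k)]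
    rfl
  have hne : (Set.range j).Nonempty := by
    by_contra h0
    refine AffMu32.not_finite c hdim (Set.finite_univ_iff.1 (((m.support.finite_toSet.image LocSym.Pt.pt).insert
      (genericPoint X)).subset fun x _ => ?_))
    by_cases hx : x = genericPoint X
    · exact Or.inl hx
    · obtain ⟨y, hy⟩ := LocSymB.exists_pt_of_isClosed (c := c) (Curve17.isClosed_singleton hdim.le hx)
      exact Or.inr ⟨y, (hU y).2 fun h => h0 ⟨_, h⟩, hy⟩
  have hη : genericPoint X ∈ Set.range j :=
    ((genericPoint_spec X).mem_open_set_iff j.isOpenEmbedding.isOpen_range).2 (by simpa using hne)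
  have hcov : ∀ x : X, x ∈ Set.range j ∨ ∃ b, x ∈ Set.range (p b) := fun x => by
    by_cases hxj : x ∈ Set.range j
    · exact Or.inl hxj
    · have hx : x ≠ genericPoint X := fun h => hxj (h ▸ hη)
      obtain ⟨y, rfl⟩ := LocSymB.exists_pt_of_isClosed (c := c) (Curve17.isClosed_singleton hdim.le hx)
      exact Or.inr ⟨m.support.equivFin ⟨y, (hU y).2 hxj⟩, (hmem _ _).2 (by simp [pts])⟩
  have hdisj : ∀ b, ∀ x ∈ Set.range (p b), x ∉ Set.range j ∧ ∀ b', x ∈ Set.range (p b') → b' = b := fun b x hx => by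
    rw [hmem] at hx
    subst hx
    refine ⟨(hU _).1 (m.support.equivFin.symm b).2, fun b' hb' => ?_⟩
    rw [hmem] at hb'
    exact m.support.equivFin.symm.injective (Subtype.ext (LocSymB.pt_injective hb'.symm))
  haveI : Nonempty U := ⟨hne.some_mem.choose⟩
  haveI : IsIntegral U := isIntegral_of_isOpenImmersion j
  obtain ⟨μ⟩ := CurvePair32.exists_mu_iso (j ≫ c) hn hnk
  obtain ⟨μX⟩ := CurvePair32.exists_mu_iso c hn hnk
  obtain ⟨R, hR⟩ := CurvePair32.exists_card_H1 c hdim
  have hpic : ∀ d : ℕ, 1 ≤ d → (d : k) ≠ 0 → Nat.card (nTor d (Additive (PicLoc.PicSet X))) = d ^ R := fun d hd hdk => by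
    have h1 : Nat.card (Additive Γ(X, ⊤)ˣ ⧸ nMul d (Additive Γ(X, ⊤)ˣ)) = 1 := by
      have htop : nMul d (Additive Γ(X, ⊤)ˣ) = ⊤ := eq_top_iff.2 fun u _ => by
        obtain ⟨v, hv⟩ := (CurveFin32.units_props c (show 0 < d by omega)).1 u.toMul
        exact ⟨Additive.ofMul v, (ofMul_pow d v).symm.trans (congrArg Additive.ofMul hv)⟩
      rw [htop]
      exact AddSubgroup.index_top
    rw [← hR d hd hdk, card_H1_mu (isUnit_natCast c hdk), h1, one_mul]
  have hsplit : ∀ {d : ℕ}, d ∣ n → ∃ q, n = d * q ∧ 1 ≤ d ∧ 1 ≤ q ∧ (d : k) ≠ 0 := by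
    rintro d ⟨q, rfl⟩
    refine ⟨q, rfl, Nat.one_le_iff_ne_zero.2 fun h => ?_, Nat.one_le_iff_ne_zero.2 fun h => ?_, fun h => hnk ?_⟩
    · subst h; simp at hn
    · subst h; simp at hn
    · rw [Nat.cast_mul, h, zero_mul]
  obtain ⟨eμ⟩ := nonempty_addEquiv_H μX 1
  haveI : Finite (EtCoh.H X (EtCoh.mu X n) 1) :=
    Nat.finite_of_card_ne_zero (by rw [hR n hn hnk]; exact pow_ne_zero _ (by omega))
  obtain ⟨eX⟩ := nonempty_addEquiv_zmod (G := EtCoh.H X (EtCoh.mu X n) 1) (R := R) (show 0 < n by omega)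
    (fun x => (Dix24.comp_mk₀_nsmul_id n x).symm.trans (by rw [nsmul_id_mu, Ext.mk₀_zero, Ext.comp_zero]))
    fun d hd => by
      obtain ⟨q, rfl, h1, h2, h3⟩ := hsplit hd
      rw [card_nTor_H1_mu c h1 h2 hnk, hR d h1 h3]
  have hH : Nonempty (EtCoh.H X ((EtShriek.extZero j).obj (EtCoh.mu U n)) 1 ≃+ (Fin (r - 1 + R) → ZMod n)) := by
    rcases Nat.eq_zero_or_pos r with hr0 | hr0
    · let F := EtCoh.const X (ZMod n)
      obtain ⟨w, hS⟩ := shortExact_seq j p hcov hdisj F
      obtain ⟨eS⟩ := nonempty_H0_sky p (ZMod n) (X := X)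
      haveI : IsEmpty (Fin r) := by rw [hr0]; infer_instance
      have h0 : Subsingleton (EtCoh.H X (sky p F) 0) := eS.toEquiv.subsingleton
      have h1 := subsingleton_H_sky p (ZMod n) (q := 1) (by omega) (X := X)
      let g₁ : EtCoh.H X ((EtShriek.extZero j).obj ((EtShriek.restrAlong j).obj F)) 1 →+ EtCoh.H X F 1 :=
        Sheaf.H.map (ShortComplex.mk _ _ w).f 1
      have hbij : Function.Bijective g₁ := by
        refine ⟨(injective_iff_map_eq_zero _).2 fun x hx => ?_, fun y => Ext.covariant_sequence_exact₂ _ hS y (h1.elim _ _)⟩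
        obtain ⟨y, rfl⟩ := Ext.covariant_sequence_exact₁ _ hS x hx (n₀ := 0) rfl
        have hy : y = 0 := h0.elim y 0
        rw [hy, Ext.zero_comp]
      obtain ⟨E⟩ := nonempty_addEquiv_H ((EtShriek.extZero j).mapIso (μ ≪≫ (EtLocCoh19.restrConst j (ZMod n)).symm)) 1
      rw [hr0, Nat.zero_sub, zero_add]
      exact ⟨(E.trans (AddEquiv.ofBijective g₁ hbij)).trans (eμ.symm.trans eX)⟩
    · exact (cohomology j p hcov hdisj hr0 (show 0 < n by omega) μ ⟨eμ.symm.trans eX⟩).2.1
  obtain ⟨eH⟩ := hH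
  have hG : ∀ d, d ∣ n → Nat.card (nTor d (nsmulAddMonoidHom (α := PicMod c m) n).ker) = d ^ (r - 1 + R) := fun d hd => by
    obtain ⟨q, hq, h1, h2, h3⟩ := hsplit hd
    rw [pow_add, ← hpic d h1 h3, ← card_picMod hdim hm h1 h3]
    exact Nat.card_congr
      { toFun := fun x => ⟨x.1.1, show d • x.1.1 = 0 from congrArg Subtype.val (x.2 : d • x.1 = 0)⟩
        invFun := fun y => ⟨⟨y.1, show n • y.1 = 0 by rw [hq, mul_comm, mul_nsmul', show d • y.1 = 0 from y.2, nsmul_zero]⟩,
          mem_nTor.2 (Subtype.ext (show d • y.1 = 0 from y.2))⟩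
        left_inv := fun x => rfl
        right_inv := fun y => rfl }
  haveI : Finite (nsmulAddMonoidHom (α := PicMod c m) n).ker := Nat.finite_of_card_ne_zero (by
    have h := hG n dvd_rfl
    rw [show nTor n (nsmulAddMonoidHom (α := PicMod c m) n).ker = ⊤ from
      eq_top_iff.2 fun x _ => mem_nTor.2 (Subtype.ext x.2), Nat.card_congr AddSubgroup.topEquiv.toEquiv] at h
    rw [h]
    exact pow_ne_zero _ (by omega))
  obtain ⟨e₂⟩ := nonempty_addEquiv_zmod (G := (nsmulAddMonoidHom (α := PicMod c m) n).ker) (show 0 < n by omega)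
    (fun x => Subtype.ext x.2) hG
  exact ⟨eH.trans e₂.symm⟩

end Groth.Agent.PunctC32
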