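import Groth.Agent.Lib.EtStalk.OpenImm
import Groth.Agent.Lib.EtLocCoh19.Restr
import Groth.Agent.Lib.FieldH25.Transfer
import Groth.Agent.Lib.LocAcycBC6.ConnConst
import Groth.Agent.Lib.EtPic3.Artinian
import Groth.Agent.Lib.CurveFin32.Devissage
import Groth.Agent.Lib.CurveFin32.Base
import Groth.Agent.Lib.EtDesc24.SepClosed

/-!
# Extension by zero from the complement of finitely many rational points
-/

set_option autoImplicit false
set_option linter.style.haveILetI false
set_option linter.unusedSectionVars false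
set_option backward.isDefEq.respectTransparency.types false
set_option maxHeartbeats 1000000

universe u

open CategoryTheory CategoryTheory.Limits AlgebraicGeometry Opposite CategoryTheory.Abelian

attribute [local instance] Abelian.hasFiniteBiproducts
attribute [local instance] preservesBinaryBiproducts_of_preservesBinaryProducts

noncomputable section

namespace Groth.Agent.PunctC32

open Groth.Agent

variable {k : Type u} [Field k] [IsAlgClosed k] {X U : Scheme.{u}} (j : U ⟶ X) [IsOpenImmersion j]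
  [EtShriek.JCont j] {r : ℕ} (p : Fin r → (Spec (CommRingCat.of k) ⟶ X)) [∀ b, IsClosedImmersion (p b)]

/-- The sum of the skyscrapers. -/
abbrev sky (F : EtCoh.Ab X) : EtCoh.Ab X :=
  ⨁ fun b => (EtCoh.push (p b)).obj ((EtCoh.pull (p b)).obj F)

/-- Restriction to the points. -/
abbrev toSky (F : EtCoh.Ab X) : F ⟶ sky p F :=
  biproduct.lift fun b => (EtCoh.pullPushAdj (p b)).unit.app F

variable (hcov : ∀ x : X, x ∈ Set.range j ∨ ∃ b, x ∈ Set.range (p b))
  (hdisj : ∀ b, ∀ x ∈ Set.range (p b), x ∉ Set.range j ∧ ∀ b', x ∈ Set.range (p b') → b' = b)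

theorem app_sum {A B : AddCommGrpCat.{u + 1}} {ι : Type*} (t : Finset ι) (f : ι → (A ⟶ B)) (s : A) :
    (∑ a ∈ t, f a) s = ∑ a ∈ t, f a s := by
  classical
  induction t using Finset.induction_on with
  | empty => rfl
  | insert a t ha ih => rw [Finset.sum_insert ha, Finset.sum_insert ha, ← ih]; rfl

include hdisj in
theorem stalk_sky (F : EtCoh.Ab X) {Ω : Type u} [Field Ω] [IsSepClosed Ω] (ξ : Spec (CommRingCat.of Ω) ⟶ X)
    (h : ∀ b, ξ (default : Spec (CommRingCat.of Ω)) ∉ Set.range (p b)) (s : (EtCoh.stalk ξ).obj (sky p F)) : s = 0 := by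
  classical
  haveI : (EtCoh.stalk ξ).Additive := Functor.additive_of_preservesBinaryBiproducts _
  let G : Fin r → EtCoh.Ab X := fun b => (EtCoh.push (p b)).obj ((EtCoh.pull (p b)).obj F)
  have h1 : (EtCoh.stalk ξ).map (𝟙 (⨁ G)) s = s := by rw [CategoryTheory.Functor.map_id]; rfl
  rw [← h1, ← biproduct.total, Functor.map_sum, app_sum]
  refine Finset.sum_eq_zero fun b _ => ?_
  rw [Functor.map_comp, ConcreteCategory.comp_apply]
  haveI := AddCommGrpCat.subsingleton_of_isZero (EtStalk.stalk_push_isZero (p b) ((EtCoh.pull (p b)).obj F) ξ (h b))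
  exact (congrArg _ (Subsingleton.elim _ (0 : (EtCoh.stalk ξ).obj (G b)))).trans (map_zero _)

include hcov hdisj in
theorem shortExact_seq (F : EtCoh.Ab X) :
    ∃ w : (EtShriek.extZeroAdj j).counit.app F ≫ toSky p F = 0, (ShortComplex.mk _ _ w).ShortExact := by
  classical
  let G : Fin r → EtCoh.Ab X := fun b => (EtCoh.push (p b)).obj ((EtCoh.pull (p b)).obj F)
  have hcase : ∀ (Ω : Type u) [Field Ω] [IsSepClosed Ω] (ξ : Spec (CommRingCat.of Ω) ⟶ X),
      (∃ b ζ, ζ ≫ p b = ξ ∧ ξ (default : Spec (CommRingCat.of Ω)) ∉ Set.range j ∧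
        ∀ b', b' ≠ b → ξ (default : Spec (CommRingCat.of Ω)) ∉ Set.range (p b')) ∨
      (∃ ζ, ζ ≫ j = ξ ∧ ∀ b, ξ (default : Spec (CommRingCat.of Ω)) ∉ Set.range (p b)) := fun Ω _ _ ξ => by
    rcases hcov (ξ (default : Spec (CommRingCat.of Ω))) with h | ⟨b, h⟩
    · obtain ⟨ζ, hζ⟩ := EtStalk.exists_lift_point_open j ξ h
      exact Or.inr ⟨ζ, hζ, fun b h' => (hdisj b _ h').1 h⟩
    · obtain ⟨ζ, hζ⟩ := EtStalk.exists_lift_point (p b) ξ h
      exact Or.inl ⟨b, ζ, hζ, (hdisj b _ h).1, fun b' hb h' => hb ((hdisj b _ h).2 b' h')⟩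
  have w : (EtShriek.extZeroAdj j).counit.app F ≫ toSky p F = 0 := by
    refine Sheaf.hom_ext (NatTrans.ext (funext fun V => ConcreteCategory.hom_ext _ _ fun s => ?_))
    obtain ⟨V⟩ := V
    refine EtStalk.ext_germ _ _ fun Ω _ _ ξ x => ?_
    rw [← EtStalk.germ_nat, ← EtStalk.germ_nat, Functor.map_comp, ConcreteCategory.comp_apply, Functor.map_zero]
    rcases hcase Ω ξ with ⟨b, ζ, -, h, -⟩ | ⟨ζ, -, h⟩
    · have := AddCommGrpCat.subsingleton_of_isZero
        (EtStalk.stalk_extZero_isZero j ((EtShriek.restrAlong j).obj F) ξ h)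
      rw [show EtStalk.germ ξ ((EtShriek.restrAlong j ⋙ EtShriek.extZero j).obj F) x s = 0 from
        @Subsingleton.elim _ this _ _, map_zero, map_zero]
      rfl
    · exact (stalk_sky j p hdisj F ξ h _).trans (stalk_sky j p hdisj F ξ h _).symm
  refine ⟨w, ?_⟩
  have hm : Mono ((EtShriek.extZeroAdj j).counit.app F) := by
    rw [EtStalk.mono_iff_stalk]
    intro Ω _ _ ξ
    rcases hcase Ω ξ with ⟨b, ζ, -, h, -⟩ | ⟨ζ, rfl, h⟩
    · have := AddCommGrpCat.subsingleton_of_isZero
        (EtStalk.stalk_extZero_isZero j ((EtShriek.restrAlong j).obj F) ξ h)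
      exact fun a b _ => @Subsingleton.elim _ this a b
    · exact ((ConcreteCategory.isIso_iff_bijective _).1 (EtStalk.isIso_stalk_counit j F ζ)).1
  have hunit : ∀ (b : Fin r) (Ω : Type u) [Field Ω] [IsSepClosed Ω] (ζ : Spec (CommRingCat.of Ω) ⟶ Spec (CommRingCat.of k)),
      IsIso ((EtCoh.stalk (ζ ≫ p b)).map ((EtCoh.pullPushAdj (p b)).unit.app F)) := fun b Ω _ _ ζ => by
    rw [show (EtCoh.stalk (ζ ≫ p b)).map ((EtCoh.pullPushAdj (p b)).unit.app F) =
      EtStalk.stalkPull (p b) ζ F ≫ inv (EtStalk.pushStalk (p b) ζ ((EtCoh.pull (p b)).obj F)) by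
        rw [IsIso.eq_comp_inv, EtStalk.unit_pushStalk]]
    infer_instance
  have hcomp : ∀ (Ω : Type u) [Field Ω] [IsSepClosed Ω] (ξ : Spec (CommRingCat.of Ω) ⟶ X) (b : Fin r) t,
      (EtCoh.stalk ξ).map (biproduct.π G b) ((EtCoh.stalk ξ).map (toSky p F) t) =
        (EtCoh.stalk ξ).map ((EtCoh.pullPushAdj (p b)).unit.app F) t := fun Ω _ _ ξ b t => by
    rw [← ConcreteCategory.comp_apply, ← Functor.map_comp, biproduct.lift_π]
  refine { exact := ?_, mono_f := hm, epi_g := ?_ }
  · rw [EtStalk.exact_iff_stalk]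
    intro Ω _ _ ξ
    rw [ShortComplex.ab_exact_iff]
    intro t ht
    rcases hcase Ω ξ with ⟨b, ζ, rfl, h, -⟩ | ⟨ζ, rfl, h⟩
    · refine ⟨0, (map_zero _).trans (((ConcreteCategory.isIso_iff_bijective _).1 (hunit b Ω ζ)).1 ?_)⟩
      refine (map_zero _).trans ?_
      rw [← hcomp]
      exact ((congrArg _ ht).trans (map_zero _)).symm
    · exact ((ConcreteCategory.isIso_iff_bijective _).1 (EtStalk.isIso_stalk_counit j F ζ)).2 t
  · show Epi (toSky p F)
    rw [EtStalk.epi_iff_stalk]
    intro Ω _ _ ξ s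
    haveI : (EtCoh.stalk ξ).Additive := Functor.additive_of_preservesBinaryBiproducts _
    rcases hcase Ω ξ with ⟨b, ζ, rfl, -, h⟩ | ⟨ζ, -, h⟩
    · obtain ⟨t, ht⟩ := ((ConcreteCategory.isIso_iff_bijective _).1 (hunit b Ω ζ)).2
        ((EtCoh.stalk (ζ ≫ p b)).map (biproduct.π G b) s)
      refine ⟨t, ?_⟩
      have h1 : ∀ v : (EtCoh.stalk (ζ ≫ p b)).obj (⨁ G),
          v = (EtCoh.stalk (ζ ≫ p b)).map (biproduct.ι G b) ((EtCoh.stalk (ζ ≫ p b)).map (biproduct.π G b) v) := fun v => by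
        conv_lhs => rw [show v = (EtCoh.stalk (ζ ≫ p b)).map (𝟙 (⨁ G)) v by rw [CategoryTheory.Functor.map_id]; rfl,
          ← biproduct.total, Functor.map_sum, app_sum]
        rw [Finset.sum_eq_single b (fun b' _ hb => ?_) fun hb => absurd (Finset.mem_univ b) hb]
        · rw [Functor.map_comp, ConcreteCategory.comp_apply]
        · rw [Functor.map_comp, ConcreteCategory.comp_apply]
          haveI := AddCommGrpCat.subsingleton_of_isZero
            (EtStalk.stalk_push_isZero (p b') ((EtCoh.pull (p b')).obj F) (ζ ≫ p b) (h b' hb))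
          exact (congrArg _ (Subsingleton.elim _ (0 : (EtCoh.stalk (ζ ≫ p b)).obj (G b')))).trans (map_zero _)
      rw [h1 s, h1 ((EtCoh.stalk (ζ ≫ p b)).map (toSky p F) t), hcomp, ht]
    · exact ⟨0, (map_zero _).trans (stalk_sky j p hdisj F ξ h s).symm⟩

/-- The cohomology of the skyscrapers, pointwise. -/
def skyPi (F : EtCoh.Ab X) (q : ℕ) :
    EtCoh.H X (sky p F) q →+ ∀ b : Fin r, EtCoh.H (Spec (CommRingCat.of k)) ((EtCoh.pull (p b)).obj F) q :=
  AddMonoidHom.mk' (fun x b => EtLim.HofPush (p b) ((EtCoh.pull (p b)).obj F) q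
      (Sheaf.H.map (biproduct.π (fun b => (EtCoh.push (p b)).obj ((EtCoh.pull (p b)).obj F)) b) q x))
    fun x y => funext fun b => by rw [map_add, map_add]; rfl

theorem skyPi_bijective (F : EtCoh.Ab X) (q : ℕ) : Function.Bijective (skyPi p F q) := by
  classical
  let G : Fin r → EtCoh.Ab X := fun b => (EtCoh.push (p b)).obj ((EtCoh.pull (p b)).obj F)
  have hb := fun b => FieldH25.bijective_HofPush_integral (p b) ((EtCoh.pull (p b)).obj F) q
  constructor
  · refine (injective_iff_map_eq_zero _).2 fun x hx => ?_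
    rw [← Ext.comp_mk₀_id x, ← biproduct.total, Ext.mk₀_sum, Ext.comp_sum]
    refine Finset.sum_eq_zero fun b _ => ?_
    have h1 : x.comp (Ext.mk₀ (biproduct.π G b)) (add_zero q) = 0 :=
      (hb b).1 ((congrFun hx b).trans (map_zero _).symm)
    rw [← Ext.mk₀_comp_mk₀, ← Ext.comp_assoc_of_third_deg_zero, h1, Ext.zero_comp]
  · intro y
    choose z hz using fun b => (hb b).2 (y b)
    refine ⟨∑ b, Sheaf.H.map (biproduct.ι G b) q (z b), funext fun b => ?_⟩
    show EtLim.HofPush (p b) _ q (Sheaf.H.map (biproduct.π G b) q (∑ b', Sheaf.H.map (biproduct.ι G b') q (z b'))) = y b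
    rw [map_sum, Finset.sum_eq_single b (fun b' _ hne => ?_) fun h => absurd (Finset.mem_univ b) h]
    · rw [← Sheaf.H.map_comp_apply, biproduct.ι_π_self, Sheaf.H.map_id_apply, hz]
    · rw [← Sheaf.H.map_comp_apply, biproduct.ι_π_ne _ hne]
      show (z b').comp (Ext.mk₀ 0) (add_zero q) = 0
      rw [Ext.mk₀_zero, Ext.comp_zero]

theorem subsingleton_H_sky (M : Type) [AddCommGroup M] {q : ℕ} (hq : 0 < q) :
    Subsingleton (EtCoh.H X (sky p (EtCoh.const X M)) q) := by
  haveI : ∀ b, Subsingleton (EtCoh.H (Spec (CommRingCat.of k)) ((EtCoh.pull (p b)).obj (EtCoh.const X M)) q) :=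
    fun b => EtPic3.subsingleton_H_sepClosed k _ hq
  exact (skyPi_bijective p (EtCoh.const X M) q).1.subsingleton

/-- The sections of the skyscrapers of a constant sheaf. -/
theorem nonempty_H0_sky (M : Type) [AddCommGroup M] :
    Nonempty (EtCoh.H X (sky p (EtCoh.const X M)) 0 ≃+ (Fin r → M)) := by
  haveI : ConnectedSpace (Spec (CommRingCat.of k)) := inferInstance
  obtain ⟨e⟩ := LocAcycBC6.nonempty_H0_const_addEquiv (Spec (CommRingCat.of k)) M
  have : ∀ b, Nonempty (EtCoh.H (Spec (CommRingCat.of k)) ((EtCoh.pull (p b)).obj (EtCoh.const X M)) 0 ≃+ M) := fun b =>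
    ⟨(({ toFun := fun x => x.comp (Ext.mk₀ (EtCore.pullConst (p b) M).hom) (add_zero 0)
         invFun := fun x => x.comp (Ext.mk₀ (EtCore.pullConst (p b) M).inv) (add_zero 0)
         left_inv := fun x => by simp
         right_inv := fun x => by simp
         map_add' := fun x y => Ext.add_comp _ _ _ _ } :
      EtCoh.H (Spec (CommRingCat.of k)) ((EtCoh.pull (p b)).obj (EtCoh.const X M)) 0 ≃+ _)).trans e⟩
  replace this := fun b => (this b).some
  exact ⟨(AddEquiv.ofBijective _ (skyPi_bijective p (EtCoh.const X M) 0)).trans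
    (AddEquiv.piCongrRight this)⟩

include hdisj in
/-- An extension by zero avoiding a point has no global sections of a constant sheaf. -/
theorem subsingleton_H0 [ConnectedSpace X] (hcov' : ∀ x : X, x ∈ Set.range j ∨ ∃ b, x ∈ Set.range (p b))
    (M : Type) [AddCommGroup M] (b : Fin r) :
    Subsingleton (EtCoh.H X ((EtShriek.extZero j).obj ((EtShriek.restrAlong j).obj (EtCoh.const X M))) 0) := by
  obtain ⟨w, hS⟩ := shortExact_seq j p hcov' hdisj (EtCoh.const X M)
  haveI := hS.mono_f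
  refine subsingleton_of_forall_eq 0 fun x => ?_
  obtain ⟨a, rfl⟩ := (Ext.mk₀_bijective _ _).2 x
  haveI : IsSepClosed (IsLocalRing.ResidueField k) := EtDesc24.isSepClosed_residueField k
  let a' := a ≫ (EtShriek.extZeroAdj j).counit.app (EtCoh.const X M)
  obtain ⟨m, hm⟩ := (LocAcycBC6.bijective_constSec_top X M).2 (a'.hom.app (op (EtCoh.top X)) (EtStalk.oneSec X))
  suffices h0 : a' = 0 by
    rw [← Ext.mk₀_zero]
    exact congrArg _ ((cancel_mono ((EtShriek.extZeroAdj j).counit.app (EtCoh.const X M))).1 (h0.trans zero_comp.symm))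
  refine EtStalk.const_hom_ext ?_
  have hm0 : LocConst24.constSec X M (EtCoh.top X) m = 0 := by
    have hz : IsZero ((EtCoh.stalk (p b)).obj ((EtShriek.extZero j).obj ((EtShriek.restrAlong j).obj (EtCoh.const X M)))) :=
      EtStalk.stalk_extZero_isZero j _ (p b) ((hdisj b _ ⟨_, rfl⟩).1)
    haveI := AddCommGrpCat.subsingleton_of_isZero hz
    let y : EtStalk.fib (p b) (EtCoh.top X) := Over.homMk (p b) (Category.comp_id (p b))
    have h1 : EtStalk.germ (p b) (EtCoh.const X M) y (LocConst24.constSec X M (EtCoh.top X) m) = 0 := by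
      rw [hm]
      refine (EtStalk.germ_nat _ _ _ _).symm.trans ?_
      rw [Functor.map_comp, ConcreteCategory.comp_apply]
      exact (congrArg _ (Subsingleton.elim _ 0)).trans (map_zero _)
    have h2 : m = 0 := (LocConst24.bijAt_constSec X M (EtCoh.top X) _ _ y).1 (h1.trans (by simp))
    rw [h2, map_zero]
  rw [← hm, hm0]
  rfl

end Groth.Agent.PunctC32
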